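import Groth.Agent.ProjDualR.HorrocksPn
import Groth.Agent.VBCurvesLib.WeilFinite
import Groth.Agent.CurveEmbed.Conic
import Groth.Agent.CurveEmbed.P1
import Groth.Agent.H23.PnChart
import Groth.Agent.S10829
import Groth.Agent.S11674
import Groth.Agent.Pic13Lib.Closed
import Mathlib.Data.Fin.Tuple.Sort

/-! Vector bundles on the projective line split. -/

noncomputable section

set_option linter.style.haveILetI false
set_option linter.unusedSectionVars false
set_option backward.isDefEq.respectTransparency false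
set_option backward.isDefEq.respectTransparency.types false

universe u

open CategoryTheory CategoryTheory.Limits AlgebraicGeometry TopologicalSpace Opposite

namespace Groth.Agent.P1Split15

open Groth.Agent Groth.Agent.RegEpi Groth.Agent.CurveBundle Groth.Agent.CurveSlope Groth.Agent.CurveStable

attribute [-instance] CategoryTheory.Limits.hasCoproduct_of_hasBiproduct

/-- Antitone sequences with the same numbers of terms above each bound are equal. -/
theorem eq_of_counts {r : ℕ} {d d' : Fin r → ℤ} (hd : Antitone d) (hd' : Antitone d')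
    (h : ∀ m : ℤ, (Finset.univ.filter fun i => m ≤ d i).card = (Finset.univ.filter fun i => m ≤ d' i).card) :
    d = d' := by
  suffices H : ∀ {a b : Fin r → ℤ}, Antitone a → Antitone b →
      (∀ m : ℤ, (Finset.univ.filter fun i => m ≤ a i).card = (Finset.univ.filter fun i => m ≤ b i).card) →
      ∀ j, a j ≤ b j by
    exact funext fun j => le_antisymm (H hd hd' h j) (H hd' hd (fun m => (h m).symm) j)
  intro a b ha hb hab j
  by_contra hlt
  have h1 : (Finset.Iic j).card ≤ (Finset.univ.filter fun i => a j ≤ a i).card :=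
    Finset.card_le_card fun i hi => Finset.mem_filter.2 ⟨Finset.mem_univ _, ha (Finset.mem_Iic.1 hi)⟩
  have h2 : (Finset.univ.filter fun i => a j ≤ b i).card ≤ (Finset.Iio j).card :=
    Finset.card_le_card fun i hi => Finset.mem_Iio.2 (by
      by_contra hij
      have := (Finset.mem_filter.1 hi).2
      have := hb (le_of_not_gt hij)
      omega)
  rw [hab] at h1
  simp only [Fin.card_Iic, Fin.card_Iio] at h1 h2
  omega

/-- Count the nonnegative shifts. -/
theorem sum_toNat_succ {r : ℕ} (d : Fin r → ℤ) (n : ℤ) :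
    ∑ i, (d i + n + 1).toNat =
      (∑ i, (d i + n).toNat) + (Finset.univ.filter fun i => -n ≤ d i).card := by
  rw [Finset.card_filter, ← Finset.sum_add_distrib]
  refine Finset.sum_congr rfl fun i _ => ?_
  split_ifs with hi <;> omega

variable (k : Type u) [Field k]

local notation "PP" => CohB1.ProjSpace 1 k
local notation "OO" => Twist.twistProjSpace 1 k

instance : IsIntegral (CohB1.ProjSpace 1 k) := H23.PnChart.isIntegral_projSpace 1 k

instance : IsProper ((CohB1.ProjSpace 1 k) ↘ Spec (CommRingCat.of k)) := PnCoh.Chow.isProper_toSpec 1 k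

instance : Smooth ((CohB1.ProjSpace 1 k) ↘ Spec (CommRingCat.of k)) := CurveEmbed.smooth_toSpec 1 k

instance : IsLocallyNoetherian (CohB1.ProjSpace 1 k) := Pic13Lib.isLocallyNoetherian_projSpace k 1

theorem dim_eq : topologicalKrullDim (CohB1.ProjSpace 1 k) = 1 := by
  simpa using S10829.result k 1

theorem h0_twist (m : ℤ) : Module.finrank k (Coh.HH PP (OO m) 0) = (m + 1).toNat := by
  rcases lt_or_ge m 0 with hm | hm
  · haveI := S0844.result k 1 m 0 (fun h => by omega) (fun h => by omega)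
    rw [Module.finrank_zero_of_subsingleton]
    omega
  · obtain ⟨e, rfl⟩ := Int.eq_ofNat_of_zero_le hm
    obtain ⟨φ⟩ := S0843.result k 1 e
    rw [φ.finrank_eq, CurveEmbed.finrank_binary]
    omega

theorem euler_twist (m : ℤ) (hm : -1 ≤ m) : Curv2.euler k PP (OO m) = m + 1 := by
  haveI := S0844.result k 1 m 1 (fun h => by omega) (fun h => by omega)
  rw [CurveRR.euler_eq_h0_sub_h1 k (dim_eq k).le
    (CurveDeg.isCoh_of_isInvertible (Pic13Lib.isInvertible_twistProjSpace k 1 m)).1, h0_twist,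
    Module.finrank_zero_of_subsingleton (M := Coh.HH PP (OO m) 1)]
  omega

theorem euler_unit : Curv2.euler k PP (Coh.structureModule PP) = 1 := by
  rw [CurveCohLib.euler_congr (k := k) (Pic13Lib.twistProjSpace_zero k 1).some, euler_twist k 0 (by norm_num)]
  norm_num

theorem dg_twist_zero_le (m : ℤ) (hm : 0 ≤ m) : dg k (OO m) = m := by
  rw [← deg_eq_dg k (InvEnd.isFinLocFreeOfRank_one (Pic13Lib.isInvertible_twistProjSpace k 1 m))]
  unfold Curv2.deg
  rw [euler_twist k m (by omega), euler_unit]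
  omega

/-- Very negative twists of a bundle have no sections. -/
theorem exists_low {r : ℕ} {E : (CohB1.ProjSpace 1 k).Modules} (hE : FlatMod.IsFinLocFreeOfRank r E) :
    ∃ n₀ : ℤ, ∀ n : ℤ, n ≤ n₀ → Subsingleton (Coh.HH PP (CohB1.tensorMod E (OO n)) 0) := by
  have hEc := coh_of_free k (isFinLocFree_of_rank hE)
  refine ⟨-(Module.finrank k (Coh.HH PP E 0) : ℤ) - 1, fun n hn => ?_⟩
  haveI := PnCoh.Finite.projSpace_finite_HH 1 k _ (ProjRegular.isCoh_twistBy hEc n) 0
  by_contra hns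
  obtain ⟨s, hs⟩ := CurveRR.exists_hom_ne_zero k (P := CohB1.tensorMod E (OO n))
    fun h0 => hns ((Module.finrank_zero_iff (R := k)).1 h0)
  obtain ⟨u⟩ := Pic13Lib.twistProjSpace_zero k 1
  obtain ⟨e1⟩ := ProjDualR.Horrocks.exists_untwist (k := k) (d := 1) E n
  obtain ⟨e2⟩ := ProjDualR.Horrocks.twF_twist (k := k) (d := 1) 0 (-n) (-n) (zero_add _).symm
  have hφ : e2.inv ≫ (twF (k := k) (n := 1) (-n)).map (u.inv ≫ s) ≫ e1.hom ≠ 0 := fun h => hs <| by
    have h1 : (twF (k := k) (n := 1) (-n)).map (u.inv ≫ s) = 0 := by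
      rw [← cancel_epi e2.inv, ← cancel_mono e1.hom, Category.assoc, h, comp_zero, zero_comp]
    rw [← cancel_epi u.inv, (twF (k := k) (n := 1) (-n)).map_eq_zero_iff.1 h1, comp_zero]
  have hO := Pic13Lib.isInvertible_twistProjSpace k 1 (-n)
  obtain ⟨I, π, j, hj, hπ, hfac, hK, hI, hrk, hdg, hpos, -⟩ := exists_decomp k (dim_eq k).le
    (isFinLocFree_of_rank (InvEnd.isFinLocFreeOfRank_one hO)) (isFinLocFree_of_rank hE)
    (e2.inv ≫ (twF (k := k) (n := 1) (-n)).map (u.inv ≫ s) ≫ e1.hom)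
  have h1 := hpos hφ
  rw [rk_eq (InvEnd.isFinLocFreeOfRank_one hO)] at hrk
  rw [dg_eq_zero_of_isZero k (isZero_of_rk_zero hK (by omega)), dg_twist_zero_le k _ (by omega)] at hdg
  haveI := hj
  have h2 := dg_le_h0 k (dim_eq k).le j (coh_of_free k hI) hEc
  rw [euler_unit] at h2
  omega

theorem h0_sum {r : ℕ} (d : Fin r → ℤ) {E : (CohB1.ProjSpace 1 k).Modules}
    (e : E ≅ ∐ fun i => Twist.twistProjSpace 1 k (d i)) (n : ℤ) :
    Module.finrank k (Coh.HH PP (CohB1.tensorMod E (OO n)) 0) = ∑ i, (d i + n + 1).toNat ∧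
      ((∀ i, -1 ≤ d i + n) →
        Curv2.euler k PP (CohB1.tensorMod E (OO n)) = ∑ i, (d i + n + 1)) := by
  have hφ : ∀ i, Nonempty ((twF (k := k) (n := 1) n).obj (OO (d i)) ≅ OO (d i + n)) :=
    fun i => ProjDualR.Horrocks.twF_twist (k := k) (d := 1) (d i) n _ rfl
  let e' : CohB1.tensorMod E (OO n) ≅ ∐ fun i => OO (d i + n) :=
    (twF (k := k) (n := 1) n).mapIso e ≪≫ PreservesCoproduct.iso (twF (k := k) (n := 1) n) _ ≪≫
      Sigma.mapIso fun i => (hφ i).some
  have hc : ∀ i, Coh.IsCoh (OO (d i + n)) := fun i =>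
    CurveDeg.isCoh_of_isInvertible (Pic13Lib.isInvertible_twistProjSpace k 1 _)
  have hcc := VBCurvesLib.isCoh_coproduct k (fun i => OO (d i + n)) hc
  refine ⟨?_, fun hn => ?_⟩
  · rw [(CurveCohLib.hhEquiv (k := k) e' 0).finrank_eq, VBCurvesLib.finrank_HH_coproduct k _ hc 0]
    exact Finset.sum_congr rfl fun i _ => h0_twist k _
  · rw [CurveCohLib.euler_congr (k := k) e', CurveRR.euler_eq_h0_sub_h1 k (dim_eq k).le hcc.1,
      VBCurvesLib.finrank_HH_coproduct k _ hc 0, VBCurvesLib.finrank_HH_coproduct k _ hc 1]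
    push_cast
    rw [← Finset.sum_sub_distrib]
    refine Finset.sum_congr rfl fun i _ => ?_
    rw [← CurveRR.euler_eq_h0_sub_h1 k (dim_eq k).le (hc i).1, euler_twist k _ (hn i)]

theorem exists_splitting {r : ℕ} {E : (CohB1.ProjSpace 1 k).Modules} (hE : FlatMod.IsFinLocFreeOfRank r E) :
    ∃ d : Fin r → ℤ, Nonempty (E ≅ ∐ fun i => Twist.twistProjSpace 1 k (d i)) := by
  by_cases hz : IsZero E
  · obtain rfl : r = 0 := by rw [← rk_eq hE, rk_eq_zero_of_isZero hz]
    exact ⟨fun i => i.elim0, ⟨hz.iso (IsZero.of_iso (isZero_zero _)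
      ((IsZero.iff_id_eq_zero _).2 (Sigma.hom_ext _ _ fun i => i.elim0)).isoZero)⟩⟩
  have hEc := coh_of_free k (isFinLocFree_of_rank hE)
  obtain ⟨r', a, ⟨e⟩⟩ := (S11674.result k 1 le_rfl E hEc hz).2
    ⟨exists_low k hE, fun n i h1 h2 => by omega⟩
  obtain ⟨b, hb⟩ := Finite.bddBelow_range a
  have key : ∀ n : ℤ, -1 - b ≤ n → 0 ≤ n →
      dg k E + (r : ℤ) * n + r = ∑ i, (a i + n + 1) := fun n hn hn0 => by
    rw [← (h0_sum k a e n).2 fun i => by have := hb ⟨i, rfl⟩; omega]
    obtain ⟨h1, h2⟩ := VBCurvesLib.dg_twist k (dim_eq k) (Pic13Lib.isInvertible_twistProjSpace k 1 n)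
      (isFinLocFree_of_rank hE)
    rw [rk_eq hE, deg_eq_dg k (InvEnd.isFinLocFreeOfRank_one (Pic13Lib.isInvertible_twistProjSpace k 1 n)),
      dg_twist_zero_le k n hn0] at h2
    rw [rk_eq hE] at h1
    unfold dg at h2
    rw [h1, rk_eq hE, euler_unit] at h2
    show _ = Curv2.euler k PP ((DCoh.tensorBi.obj E).obj (OO n))
    unfold dg
    rw [rk_eq hE, euler_unit]
    linarith
  have h1 := key (max 0 (-1 - b)) (le_max_right _ _) (le_max_left _ _)
  have h2 := key (max 0 (-1 - b) + 1) (by omega) (by omega)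
  simp only [Finset.sum_add_distrib, Finset.sum_const, Finset.card_univ, Fintype.card_fin,
    nsmul_eq_mul, mul_add, mul_one] at h1 h2
  obtain rfl : r = r' := by omega
  exact ⟨a, ⟨e⟩⟩

theorem existsUnique_splitting {r : ℕ} {E : (CohB1.ProjSpace 1 k).Modules}
    (hE : FlatMod.IsFinLocFreeOfRank r E) :
    ∃! d : Fin r → ℤ, Antitone d ∧ Nonempty (E ≅ ∐ fun i : Fin r => Twist.twistProjSpace 1 k (d i)) := by
  obtain ⟨a, ⟨e⟩⟩ := exists_splitting k hE
  let σ := Tuple.sort fun i => -a i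
  have hσ : Antitone (a ∘ σ) := fun i j hij => by
    have := Tuple.monotone_sort (fun i => -a i) hij
    simp only [σ, Function.comp_apply] at this ⊢
    omega
  refine ⟨a ∘ σ, ⟨hσ, ⟨e ≪≫ (Sigma.whiskerEquiv (f := fun i => OO (a (σ i))) (g := fun i => OO (a i)) σ
    fun i => Iso.refl _).symm⟩⟩, ?_⟩
  rintro d ⟨hd, ⟨e'⟩⟩
  let e'' : E ≅ ∐ fun i => OO ((a ∘ σ) i) := e ≪≫ (Sigma.whiskerEquiv (f := fun i => OO (a (σ i)))
    (g := fun i => OO (a i)) σ fun i => Iso.refl _).symm
  refine eq_of_counts hd hσ fun m => ?_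
  have h : ∀ n : ℤ, ∑ i, (d i + n + 1).toNat = ∑ i, ((a ∘ σ) i + n + 1).toNat := fun n =>
    (h0_sum k d e' n).1.symm.trans (h0_sum k (a ∘ σ) e'' n).1
  have hm := h (-m)
  rw [sum_toNat_succ, sum_toNat_succ, neg_neg] at hm
  have hm' := h (-m - 1)
  simp only [sub_eq_add_neg, add_assoc, neg_add_cancel, add_zero] at hm'
  omega

end Groth.Agent.P1Split15
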